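import Cfsg.Agent.Lib.CharTheory
import Cfsg.Agent.Lib.CharTheory.Schur

/-!
The character computation for a simple group with involution centralizer `V × O`,
`V` a four-group, `O` of odd order.
-/

set_option autoImplicit false

namespace CfsgLib.KleinCent

open Cfsg CfsgLib.CharTheory
open scoped ComplexConjugate

universe u

/-- The local data. -/
structure Data (G : Type u) [Group G] where
  x : G
  V : Subgroup G
  H : Subgroup G
  O : Subgroup G
  hH : ∀ v ∈ V, v ≠ 1 → Subgroup.centralizer ({v} : Set G) = H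
  hVH : V ≤ H
  hOH : O ≤ H
  hxV : x ∈ V
  hx1 : x ≠ 1
  hV4 : Nat.card V = 4
  hVsq : ∀ v ∈ V, v * v = 1
  hodd : Odd (Nat.card O)
  hcard : Nat.card H = 4 * Nat.card O
  hdec : ∀ k ∈ H, ∃ v ∈ V, ∃ h ∈ O, k = v * h
  hconj : ∀ v ∈ V, v ≠ 1 → IsConj x v

variable {G : Type u} [Group G]

/-- Congruence modulo 2 in the algebraic integers. -/
def ModTwo (a b : ℂ) : Prop := IsIntegral ℤ ((a - b) / 2)

theorem ModTwo.refl (a : ℂ) : ModTwo a a := by
  simp [ModTwo, isIntegral_zero]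

theorem ModTwo.symm {a b : ℂ} (h : ModTwo a b) : ModTwo b a := by
  have := h.neg
  rwa [← neg_div, neg_sub] at this

theorem ModTwo.trans {a b c : ℂ} (h : ModTwo a b) (h' : ModTwo b c) : ModTwo a c := by
  have := h.add h'
  rwa [← add_div, sub_add_sub_cancel] at this

theorem ModTwo.sum {ι : Type*} (s : Finset ι) (f g : ι → ℂ) (h : ∀ i ∈ s, ModTwo (f i) (g i)) :
    ModTwo (∑ i ∈ s, f i) (∑ i ∈ s, g i) := by
  unfold ModTwo
  rw [← Finset.sum_sub_distrib, Finset.sum_div]
  exact IsIntegral.sum _ h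

theorem ModTwo.mul_left {a b : ℂ} (c : ℂ) (hc : IsIntegral ℤ c) (h : ModTwo a b) :
    ModTwo (c * a) (c * b) := by
  unfold ModTwo
  rw [← mul_sub, mul_div_assoc]
  exact hc.mul h

theorem isIntegral_intCast (q : ℤ) : IsIntegral ℤ (q : ℂ) := by
  have h : IsIntegral ℤ ((algebraMap ℤ ℂ) q) := isIntegral_algebraMap
  rwa [eq_intCast] at h

theorem modTwo_int {m n : ℤ} : ModTwo (m : ℂ) (n : ℂ) ↔ (2 : ℤ) ∣ m - n := by
  constructor
  · intro h
    have h' : IsIntegral ℤ ((((m - n : ℤ) : ℚ) / 2 : ℚ) : ℂ) := by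
      have e : ((m : ℂ) - n) / 2 = ((((m - n : ℤ) : ℚ) / 2 : ℚ) : ℂ) := by push_cast; ring
      rw [← e]; exact h
    obtain ⟨z, hz⟩ := exists_int_of_isIntegral_ratCast h'
    refine ⟨z, ?_⟩
    have : ((m - n : ℤ) : ℚ) = 2 * (z : ℚ) := by rw [← hz]; ring
    exact_mod_cast this
  · rintro ⟨z, hz⟩
    have e : ((m : ℂ) - n) / 2 = (z : ℂ) := by
      have : ((m - n : ℤ) : ℂ) = ((2 * z : ℤ) : ℂ) := by rw [hz]
      push_cast at this
      rw [this]; ring
    show IsIntegral ℤ _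
    rw [e]
    exact isIntegral_intCast z

namespace Data

variable (d : Data G)

theorem comm {v h : G} (hv : v ∈ d.V) (hh : h ∈ d.H) : v * h = h * v := by
  by_cases h1 : v = 1
  · simp [h1]
  · rw [← d.hH v hv h1, Subgroup.mem_centralizer_singleton_iff] at hh
    exact hh.symm

theorem mem_H_of_comm {g : G} (h : g * d.x = d.x * g) : g ∈ d.H := by
  rw [← d.hH d.x d.hxV d.hx1, Subgroup.mem_centralizer_singleton_iff]; exact h

theorem inv_eq {v : G} (hv : v ∈ d.V) : v⁻¹ = v := inv_eq_of_mul_eq_one_right (d.hVsq v hv)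

theorem pow_card_O {h : G} (hh : h ∈ d.O) : h ^ Nat.card d.O = 1 := by
  have := congrArg Subtype.val (pow_card_eq_one' (G := d.O) (x := ⟨h, hh⟩))
  rwa [Subgroup.coe_pow, OneMemClass.coe_one] at this

theorem pow_V {v : G} (hv : v ∈ d.V) : v ^ Nat.card d.O = v := by
  obtain ⟨m, hm⟩ := d.hodd
  rw [hm, pow_succ, pow_mul, sq, d.hVsq v hv, one_pow, one_mul]

theorem pow_mul' {v h : G} (hv : v ∈ d.V) (hh : h ∈ d.O) : (v * h) ^ Nat.card d.O = v := by
  rw [(show Commute v h from d.comm hv (d.hOH hh)).mul_pow, d.pow_card_O hh, d.pow_V hv, mul_one]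

theorem unique {v v' h h' : G} (hv : v ∈ d.V) (hv' : v' ∈ d.V) (hh : h ∈ d.O) (hh' : h' ∈ d.O)
    (e : v * h = v' * h') : v = v' ∧ h = h' := by
  have h1 : v = v' := by rw [← d.pow_mul' hv hh, e, d.pow_mul' hv' hh']
  subst h1
  exact ⟨rfl, mul_left_cancel e⟩

/-- The elements whose 2-part is conjugate to `x`. -/
def D (g : G) : Prop := IsConj d.x (g ^ Nat.card d.O)

theorem D_conj (g c : G) : d.D (c * g * c⁻¹) ↔ d.D g := by
  unfold D
  rw [conj_pow]
  exact ⟨fun h => h.trans (isConj_iff.mpr ⟨c⁻¹, by group⟩), fun h => h.trans (isConj_iff.mpr ⟨c, rfl⟩)⟩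

theorem D_xh {h : G} (hh : h ∈ d.O) : d.D (d.x * h) := by
  unfold D; rw [d.pow_mul' d.hxV hh]

theorem D_of_VO {v h : G} (hv : v ∈ d.V) (hh : h ∈ d.O) : d.D (v * h) ↔ v ≠ 1 := by
  unfold D
  rw [d.pow_mul' hv hh]
  exact ⟨fun h e => d.hx1 (isConj_one_left.mp (e ▸ h)), d.hconj v hv⟩

theorem conj_xh {c h h' : G} (hh : h ∈ d.O) (hh' : h' ∈ d.O) (e : c * (d.x * h) * c⁻¹ = d.x * h') : c ∈ d.H := by
  apply d.mem_H_of_comm
  have h1 : c * d.x * c⁻¹ = d.x := by
    have := congrArg (fun g => g ^ Nat.card d.O) e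
    simpa only [conj_pow, d.pow_mul' d.hxV hh, d.pow_mul' d.hxV hh'] using this
  exact mul_inv_eq_iff_eq_mul.mp h1

theorem conj_xO {c h : G} (hc : c ∈ d.H) (hh : h ∈ d.O) :
    c * h * c⁻¹ ∈ d.O ∧ c * (d.x * h) * c⁻¹ = d.x * (c * h * c⁻¹) := by
  have hm : c * h * c⁻¹ ∈ d.H := d.H.mul_mem (d.H.mul_mem hc (d.hOH hh)) (d.H.inv_mem hc)
  obtain ⟨v, hv, h', hh', e⟩ := d.hdec _ hm
  have h1 : v = 1 := by
    rw [← d.pow_mul' hv hh', ← e, conj_pow, d.pow_card_O hh]; group
  refine ⟨by rw [e, h1, one_mul]; exact hh', ?_⟩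
  calc c * (d.x * h) * c⁻¹ = (c * d.x) * h * c⁻¹ := by group
    _ = (d.x * c) * h * c⁻¹ := by rw [d.comm d.hxV hc]
    _ = _ := by group

section Finite

variable [Fintype G]

noncomputable instance : Fintype d.O := Fintype.ofFinite _
noncomputable instance : Fintype d.V := Fintype.ofFinite _
noncomputable instance : Fintype d.H := Fintype.ofFinite _

/-- The average of a function on `x O`. -/
noncomputable def avg (φ : G → ℂ) : ℂ := (Nat.card d.O : ℂ)⁻¹ * ∑ h : d.O, φ (d.x * h)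

theorem cardO_ne : (Nat.card d.O : ℂ) ≠ 0 := Nat.cast_ne_zero.mpr Nat.card_pos.ne'

theorem sum_xO (φ : G → ℂ) : ∑ h : d.O, φ (d.x * h) = (Nat.card d.O : ℂ) * d.avg φ := by
  rw [avg, ← mul_assoc, mul_inv_cancel₀ d.cardO_ne, one_mul]

theorem avg_int {χ : G → ℂ} (hχ : IsCharacter G χ) : ∃ z : ℤ, d.avg χ = z := by
  classical
  let fO : G → ℂ := χ
  obtain ⟨n1, hn1⟩ := classInner_char_nat (isCharacter_restrict hχ d.O) isCharacter_one
  let X := Subgroup.zpowers d.x
  letI : Fintype X := Fintype.ofFinite _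
  let ψ : X × d.O →* G := MonoidHom.noncommCoprod X.subtype d.O.subtype fun s h => by
    obtain ⟨m, hm⟩ := Subgroup.mem_zpowers_iff.mp s.2
    show Commute (s : G) (h : G)
    rw [← hm]
    exact (show Commute d.x (h : G) from d.comm d.hxV (d.hOH h.2)).zpow_left m
  obtain ⟨n2, hn2⟩ := classInner_char_nat (isCharacter_comp hχ ψ) isCharacter_one
  refine ⟨2 * n2 - n1, ?_⟩
  have hord : orderOf d.x = 2 := orderOf_eq_prime (by rw [sq]; exact d.hVsq _ d.hxV) d.hx1
  have hX : (Finset.univ : Finset X) = {1, ⟨d.x, Subgroup.mem_zpowers _⟩} := by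
    refine (Finset.eq_univ_of_card _ ?_).symm
    rw [Finset.card_pair (fun e => d.hx1 (congrArg Subtype.val e).symm), ← Nat.card_eq_fintype_card, Nat.card_zpowers, hord]
  have hsum : ∑ p : X × d.O, χ (ψ p) = ∑ h : d.O, χ h + ∑ h : d.O, χ (d.x * h) := by
    rw [Fintype.sum_prod_type, hX, Finset.sum_pair (fun e => d.hx1 (congrArg Subtype.val e).symm)]
    congr 1
    · refine Finset.sum_congr rfl fun h _ => ?_
      show χ ((1 : G) * h) = _
      rw [one_mul]
  simp only [classInner, map_one, mul_one, Function.comp_apply] at hn1 hn2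
  rw [hsum, Nat.card_prod, Nat.card_zpowers, hord] at hn2
  rw [avg]
  push_cast
  rw [← hn1, ← hn2]
  push_cast
  have := d.cardO_ne
  field_simp
  ring

/-- Twice the summed multiplicity: sum over `D` of a class function. -/
theorem sum_D {φ : G → ℂ} (hφ : IsClassFunction G φ) [DecidablePred d.D] :
    (Nat.card d.H : ℂ) * ∑ g ∈ Finset.univ.filter d.D, φ g = (Nat.card G : ℂ) * ∑ h : d.O, φ (d.x * h) := by
  classical
  let f : G × d.O → G := fun p => p.1 * (d.x * p.2) * p.1⁻¹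
  have hf : ∀ p ∈ (Finset.univ : Finset (G × d.O)), f p ∈ Finset.univ.filter d.D := fun p _ =>
    Finset.mem_filter.mpr ⟨Finset.mem_univ _, (d.D_conj _ _).mpr (d.D_xh p.2.2)⟩
  have hR : (Nat.card G : ℂ) * ∑ h : d.O, φ (d.x * h) = ∑ p : G × d.O, φ (f p) := by
    rw [Fintype.sum_prod_type, Nat.card_eq_fintype_card, ← nsmul_eq_mul, ← Finset.card_univ, ← Finset.sum_const]
    exact Finset.sum_congr rfl fun c _ => Finset.sum_congr rfl fun h _ => (hφ _ c).symm
  rw [hR, ← Finset.sum_fiberwise_of_maps_to hf, Finset.mul_sum]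
  refine Finset.sum_congr rfl fun g hg => ?_
  rw [Finset.sum_congr rfl (fun p hp => congrArg φ (Finset.mem_filter.mp hp).2), Finset.sum_const, nsmul_eq_mul]
  congr 2
  obtain ⟨c, hc⟩ := isConj_iff.mp (Finset.mem_filter.mp hg).2
  have hc' : c⁻¹ * g * c ∈ d.H := by
    apply d.mem_H_of_comm
    have h1 : Commute (g ^ Nat.card d.O) g := (Commute.refl g).pow_left _
    rw [← hc] at h1
    calc c⁻¹ * g * c * d.x = c⁻¹ * (g * (c * d.x * c⁻¹)) * c := by group
      _ = c⁻¹ * ((c * d.x * c⁻¹) * g) * c := by rw [h1.eq]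
      _ = d.x * (c⁻¹ * g * c) := by group
  obtain ⟨v, hv, h₀, hh₀, e⟩ := d.hdec _ hc'
  have hvx : v = d.x := by
    have := congrArg (fun g => g ^ Nat.card d.O) e
    simp only [d.pow_mul' hv hh₀] at this
    rw [← this, show c⁻¹ * g * c = c⁻¹ * g * c⁻¹⁻¹ by rw [inv_inv], conj_pow, ← hc]; group
  subst hvx
  have hg' : g = c * (d.x * h₀) * c⁻¹ := by rw [← e]; group
  rw [Nat.card_eq_fintype_card, ← Finset.card_univ]
  refine Finset.card_bij (fun k _ => (c * (k : G)⁻¹, ⟨(k : G) * h₀ * (k : G)⁻¹, (d.conj_xO k.2 hh₀).1⟩)) ?_ ?_ ?_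
  · intro k _
    simp only [Finset.mem_filter, Finset.mem_univ, true_and, f]
    rw [← (d.conj_xO k.2 hh₀).2, hg']; group
  · intro a _ b _ hab
    have := congrArg Prod.fst hab
    exact Subtype.ext (inv_injective (mul_left_cancel this))
  · rintro ⟨c', h'⟩ hp
    simp only [Finset.mem_filter, Finset.mem_univ, true_and, f] at hp
    have e' : (c'⁻¹ * c) * (d.x * h₀) * (c'⁻¹ * c)⁻¹ = d.x * h' := by
      calc _ = c'⁻¹ * (c * (d.x * h₀) * c⁻¹) * c' := by group
        _ = d.x * h' := by rw [← hg', ← hp]; group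
    refine ⟨⟨_, d.conj_xh hh₀ h'.2 e'⟩, Finset.mem_univ _, ?_⟩
    refine Prod.ext (by simp [mul_assoc]) (Subtype.ext ?_)
    have h2 := (d.conj_xO (d.conj_xh hh₀ h'.2 e') hh₀).2
    exact mul_left_cancel (h2.symm.trans e')

/-- The matrix of averages of products of characters. -/
noncomputable def M (φ ψ : G → ℂ) : ℂ := d.avg (fun g => φ g * conj (ψ g))

theorem M_int {χ ψ : G → ℂ} (hχ : IsCharacter G χ) (hψ : IsCharacter G ψ) : ∃ z : ℤ, d.M χ ψ = z :=
  d.avg_int (isCharacter_mul hχ (isCharacter_conj hψ))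

theorem M_one (φ : G → ℂ) : d.M φ (fun _ => 1) = d.avg φ := by simp [M, avg]

theorem conj_M (φ ψ : G → ℂ) : conj (d.M φ ψ) = d.M ψ φ := by
  simp [M, avg, map_sum, mul_comm]

theorem M_symm {χ ψ : G → ℂ} (hχ : IsCharacter G χ) (hψ : IsCharacter G ψ) : d.M χ ψ = d.M ψ χ := by
  obtain ⟨z, hz⟩ := d.M_int hχ hψ
  rw [← d.conj_M χ ψ, hz]; simp

theorem card_conj_eq (g g' : G) [DecidablePred fun c => c * g * c⁻¹ = g'] [Decidable (IsConj g g')] :
    ((Finset.univ.filter fun c => c * g * c⁻¹ = g').card : ℂ) =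
      if IsConj g g' then (Nat.card (Subgroup.centralizer ({g} : Set G)) : ℂ) else 0 := by
  classical
  split
  · rename_i h
    obtain ⟨c₀, hc₀⟩ := isConj_iff.mp h
    rw [Nat.card_eq_fintype_card, ← Finset.card_univ]
    norm_cast
    symm
    refine Finset.card_bij (fun k _ => c₀ * (k : G)) ?_ ?_ ?_
    · intro k _
      simp only [Finset.mem_filter, Finset.mem_univ, true_and]
      have hk := Subgroup.mem_centralizer_singleton_iff.mp k.2
      rw [← hc₀]
      calc c₀ * (k : G) * g * (c₀ * (k : G))⁻¹ = c₀ * ((k : G) * g) * (k : G)⁻¹ * c₀⁻¹ := by group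
        _ = c₀ * (g * (k : G)) * (k : G)⁻¹ * c₀⁻¹ := by rw [hk]
        _ = _ := by group
    · intro a _ b _ hab
      exact Subtype.ext (mul_left_cancel hab)
    · intro c hc
      simp only [Finset.mem_filter, Finset.mem_univ, true_and] at hc
      refine ⟨⟨c₀⁻¹ * c, Subgroup.mem_centralizer_singleton_iff.mpr ?_⟩, Finset.mem_univ _, by simp⟩
      calc c₀⁻¹ * c * g = c₀⁻¹ * (c * g * c⁻¹) * c := by group
        _ = c₀⁻¹ * (c₀ * g * c₀⁻¹) * c := by rw [hc, ← hc₀]
        _ = g * (c₀⁻¹ * c) := by group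
  · rename_i h
    rw [Finset.card_eq_zero.mpr (Finset.filter_eq_empty_iff.mpr fun c _ e => h (isConj_iff.mpr ⟨c, e⟩))]
    simp

/-- `M ^ 2 = 4 M`. -/
theorem M_sq {φ ψ : G → ℂ} (hψ : IsClassFunction G ψ) :
    ∑ χ : IrrCharacter G, d.M φ χ * d.M χ ψ = 4 * d.M φ ψ := by
  classical
  have inner : ∀ h : d.O, ∑ h' : d.O, (∑ χ : IrrCharacter G, (χ : G → ℂ) (d.x * h') * conj ((χ : G → ℂ) (d.x * h))) * conj (ψ (d.x * h')) =
      4 * (Nat.card d.O : ℂ) * conj (ψ (d.x * h)) := by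
    intro h
    simp only [sum_irr_mul_conj, ← card_conj_eq, ← Finset.sum_boole, Finset.sum_mul]
    rw [Finset.sum_comm, ← Finset.sum_subset (Finset.subset_univ (d.H : Set G).toFinset)]
    · have step : ∀ c ∈ (d.H : Set G).toFinset, ∑ h' : d.O, (if c * (d.x * h') * c⁻¹ = d.x * h then (1 : ℂ) else 0) * conj (ψ (d.x * h')) = conj (ψ (d.x * h)) := by
        intro c hc
        rw [Set.mem_toFinset, SetLike.mem_coe] at hc
        have hc' := d.H.inv_mem hc
        rw [Finset.sum_eq_single ⟨c⁻¹ * h * c⁻¹⁻¹, (d.conj_xO hc' h.2).1⟩]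
        · rw [← (d.conj_xO hc' h.2).2, if_pos (by group), one_mul, hψ]
        · intro h' _ hne
          rw [if_neg, zero_mul]
          intro e
          apply hne
          apply Subtype.ext
          show (h' : G) = c⁻¹ * h * c⁻¹⁻¹
          apply mul_left_cancel (a := d.x)
          rw [← (d.conj_xO hc' h.2).2, ← e]; group
        · simp
      rw [Finset.sum_congr rfl step, Finset.sum_const, nsmul_eq_mul, Set.toFinset_card,
        ← Nat.card_eq_fintype_card, show Nat.card (d.H : Set G) = Nat.card d.H from rfl, d.hcard]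
      push_cast; ring
    · intro c _ hc
      refine Finset.sum_eq_zero fun h' _ => ?_
      rw [if_neg, zero_mul]
      intro e
      exact hc (Set.mem_toFinset.mpr (d.conj_xh h'.2 h.2 e))
  have hO := d.cardO_ne
  simp only [M, avg]
  calc _ = (Nat.card d.O : ℂ)⁻¹ * (Nat.card d.O : ℂ)⁻¹ * ∑ h : d.O, φ (d.x * h) *
        ∑ h' : d.O, (∑ χ : IrrCharacter G, (χ : G → ℂ) (d.x * h') * conj ((χ : G → ℂ) (d.x * h))) * conj (ψ (d.x * h')) := by
        simp only [Finset.mul_sum, Finset.sum_mul]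
        rw [Finset.sum_comm]
        refine (Finset.sum_congr rfl fun h' _ => Finset.sum_comm).trans ?_
        rw [Finset.sum_comm]
        refine Finset.sum_congr rfl fun h _ => Finset.sum_congr rfl fun h' _ => Finset.sum_congr rfl fun χ _ => ?_
        ring
    _ = _ := by
        simp only [inner]
        rw [Finset.mul_sum, Finset.mul_sum, Finset.mul_sum]
        refine Finset.sum_congr rfl fun h _ => ?_
        field_simp

theorem sum_avg_degree : ∑ χ : IrrCharacter G, d.avg χ * (χ : G → ℂ) 1 = 0 := by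
  classical
  simp only [avg, mul_assoc, Finset.sum_mul, Finset.mul_sum]
  rw [Finset.sum_comm]
  refine Finset.sum_eq_zero fun h _ => ?_
  have hne : d.x * (h : G) ≠ 1 := fun e => by
    have := d.pow_mul' d.hxV h.2
    rw [e, one_pow] at this
    exact d.hx1 this.symm
  rw [← Finset.mul_sum, sum_irr_apply_mul_degree, if_neg hne, mul_zero]

theorem four_sq : ∑ χ : IrrCharacter G, d.avg χ ^ 2 = 4 := by
  have h := d.M_sq (φ := fun _ => 1) (ψ := fun _ => 1) isClassFunction_one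
  have h1 : d.M (fun _ => 1) (fun _ => 1) = 1 := by
    simp [M, avg, Finset.sum_const, Nat.card_eq_fintype_card]
  rw [h1, mul_one] at h
  rw [← h]
  refine Finset.sum_congr rfl fun χ _ => ?_
  rw [d.M_symm isCharacter_one (isCharacter_of_irr χ.2), d.M_one, sq]

/-- Values at `v h` and `h` agree mod 2. -/
theorem modTwo_V {χ : G → ℂ} (hχ : IsCharacter G χ) {v g : G} (hv : v ∈ d.V) (hg : g ∈ d.H) :
    ModTwo (χ (v * g)) (χ g) := by
  classical
  obtain ⟨n, ρ, rfl⟩ := hχ
  -- the characters of the fixed space of `v`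
  let P : Module.End ℂ (Fin n → ℂ) := (2 : ℂ)⁻¹ • (1 - ρ v)
  let W : Submodule ℂ (Fin n → ℂ) := LinearMap.range P
  have hcomm : ∀ k ∈ d.H, ρ k * P = P * ρ k := by
    intro k hk
    show ρ k * ((2 : ℂ)⁻¹ • (1 - ρ v)) = ((2 : ℂ)⁻¹ • (1 - ρ v)) * ρ k
    rw [mul_smul_comm, smul_mul_assoc, mul_sub, sub_mul, mul_one, one_mul, ← map_mul, ← map_mul, d.comm hv hk]
  have hW : ∀ k : d.H, ∀ w ∈ W, ρ (k : G) w ∈ W := by
    rintro k _ ⟨y, rfl⟩
    refine ⟨ρ (k : G) y, ?_⟩
    exact (LinearMap.congr_fun (hcomm k k.2) y).symm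
  let τ : Representation ℂ d.H W :=
    { toFun := fun k => (ρ (k : G)).restrict (hW k)
      map_one' := by ext w; simp [LinearMap.restrict_apply]
      map_mul' := fun a b => by ext w; simp [LinearMap.restrict_apply] }
  have hint := isIntegral_character τ ⟨g, hg⟩
  have hPP : P * P = P := by
    have h2 : ρ v * ρ v = 1 := by rw [← map_mul, d.hVsq v hv, map_one]
    show ((2 : ℂ)⁻¹ • (1 - ρ v)) * ((2 : ℂ)⁻¹ • (1 - ρ v)) = (2 : ℂ)⁻¹ • (1 - ρ v)
    rw [smul_mul_smul_comm, sub_mul, mul_sub, mul_sub, one_mul, mul_one, h2, one_mul,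
      show (1 - ρ v - (ρ v - 1)) = (2 : ℂ) • (1 - ρ v) by rw [two_smul]; abel, smul_smul]
    norm_num
  have htr : τ.character ⟨g, hg⟩ = LinearMap.trace ℂ _ (ρ g * P) := by
    let P' : (Fin n → ℂ) →ₗ[ℂ] W := P.rangeRestrict
    have h1 : ρ g * P = W.subtype ∘ₗ ((τ ⟨g, hg⟩) ∘ₗ P') := by ext w; rfl
    have h2 : P' ∘ₗ W.subtype = LinearMap.id := by
      refine LinearMap.ext fun w => Subtype.ext ?_
      obtain ⟨y, hy⟩ := w.2
      show P (w : Fin n → ℂ) = w
      rw [← hy]
      exact LinearMap.congr_fun hPP y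
    rw [h1, LinearMap.trace_comp_comm', LinearMap.comp_assoc, h2, LinearMap.comp_id]
    rfl
  rw [htr] at hint
  have hval : LinearMap.trace ℂ _ (ρ g * P) = (ρ.character g - ρ.character (v * g)) / 2 := by
    show LinearMap.trace ℂ _ (ρ g * ((2 : ℂ)⁻¹ • (1 - ρ v))) = _
    rw [mul_smul_comm, map_smul, mul_sub, mul_one, map_sub, smul_eq_mul, ← map_mul, d.comm hv hg]
    show (2 : ℂ)⁻¹ * (ρ.character g - ρ.character (g * v)) = _
    ring
  rw [hval] at hint
  exact ModTwo.symm hint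

theorem isIntegral_omega {χ : G → ℂ} (hχ : IsIrrCharacter G χ) [DecidablePred d.D] :
    IsIntegral ℤ ((∑ g ∈ Finset.univ.filter d.D, χ g) / χ 1) := by
  classical
  rw [← Finset.sum_fiberwise (Finset.univ.filter d.D) ConjClasses.mk, Finset.sum_div]
  refine IsIntegral.sum _ fun C _ => ?_
  obtain ⟨a, rfl⟩ := ConjClasses.mk_surjective C
  by_cases ha : d.D a
  · have hset : (Finset.univ.filter d.D).filter (fun g => ConjClasses.mk g = ConjClasses.mk a) =
        Finset.univ.filter (fun g => IsConj a g) := by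
      ext g
      simp only [Finset.mem_filter, Finset.mem_univ, true_and]
      constructor
      · rintro ⟨-, h⟩; exact (ConjClasses.mk_eq_mk_iff_isConj.mp h).symm
      · intro h
        obtain ⟨c, rfl⟩ := isConj_iff.mp h
        exact ⟨(d.D_conj a c).mpr ha, ConjClasses.mk_eq_mk_iff_isConj.mpr h.symm⟩
    rw [hset, Finset.sum_congr rfl fun g hg => (isClassFunction_iff_isConj.mp (isClassFunction_irr hχ) a g (Finset.mem_filter.mp hg).2).symm,
      Finset.sum_const, nsmul_eq_mul, ← Fintype.card_subtype, ← Nat.card_eq_fintype_card]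
    obtain ⟨n, ρ, hρ, rfl⟩ := hχ
    have := isIntegral_centralChar ρ a
    rw [ρ.char_one]
    convert this using 2
  · rw [Finset.sum_eq_zero, zero_div]
    · exact isIntegral_zero
    · intro g hg
      simp only [Finset.mem_filter, Finset.mem_univ, true_and] at hg
      obtain ⟨c, hc⟩ := isConj_iff.mp (ConjClasses.mk_eq_mk_iff_isConj.mp hg.2)
      exact absurd (hc ▸ (d.D_conj g c).mpr hg.1) ha

theorem mul_sum_D {χ : G → ℂ} (hχ : IsIrrCharacter G χ) [DecidablePred d.D] (g : G) :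
    ∑ k ∈ Finset.univ.filter d.D, χ (k * g) = (∑ k ∈ Finset.univ.filter d.D, χ k) / χ 1 * χ g := by
  classical
  obtain ⟨n, ρ, hρ, rfl⟩ := hχ
  have h := sum_smul_eq_smul_one ρ (f := fun k => if d.D k then 1 else 0) fun k c => by
    simp only [d.D_conj]
  simp only [ite_smul, one_smul, zero_smul, ite_mul, one_mul, zero_mul] at h
  rw [← Finset.sum_filter, ← Finset.sum_filter] at h
  calc ∑ k ∈ Finset.univ.filter d.D, ρ.character (k * g) = LinearMap.trace ℂ _ ((∑ k ∈ Finset.univ.filter d.D, ρ k) * ρ g) := by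
        rw [Finset.sum_mul, map_sum]
        exact Finset.sum_congr rfl fun k _ => by rw [← map_mul]; rfl
    _ = _ := by
        rw [h, smul_mul_assoc, one_mul, map_smul, smul_eq_mul, ρ.char_one]
        rfl

theorem pairing_sum {s : Finset G} (σ : G → G) (f : G → ℂ) (hs : ∀ k ∈ s, σ k ∈ s) (hne : ∀ k ∈ s, σ k ≠ k)
    (hinv : ∀ k ∈ s, σ (σ k) = k) (hf : ∀ k ∈ s, f (σ k) = f k) (hint : ∀ k ∈ s, IsIntegral ℤ (f k)) :
    ModTwo (∑ k ∈ s, f k) 0 := by
  classical
  let e : G ↪ ℕ := ⟨fun g => (Fintype.equivFin G g : ℕ), fun a b h => (Fintype.equivFin G).injective (Fin.ext h)⟩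
  set s1 := s.filter fun k => e k < e (σ k)
  set s2 := s.filter fun k => ¬ e k < e (σ k)
  have h12 : ∑ k ∈ s2, f k = ∑ k ∈ s1, f k := by
    refine Finset.sum_bij (fun k _ => σ k) ?_ ?_ ?_ ?_
    · intro k hk
      simp only [s1, s2, Finset.mem_filter] at hk ⊢
      refine ⟨hs k hk.1, ?_⟩
      rw [hinv k hk.1]
      rcases lt_or_eq_of_le (not_lt.mp hk.2) with h | h
      · exact h
      · exact absurd (e.injective h) (hne k hk.1)
    · intro a ha b hb hab
      simp only [s2, Finset.mem_filter] at ha hb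
      rw [← hinv a ha.1, hab, hinv b hb.1]
    · intro k hk
      simp only [s1, Finset.mem_filter] at hk
      refine ⟨σ k, ?_, hinv k hk.1⟩
      simp only [s2, Finset.mem_filter]
      exact ⟨hs k hk.1, by rw [hinv k hk.1]; omega⟩
    · intro k hk
      simp only [s2, Finset.mem_filter] at hk
      exact (hf k hk.1).symm
  unfold ModTwo
  rw [sub_zero, ← Finset.sum_filter_add_sum_filter_not s (fun k => e k < e (σ k)), h12, ← two_mul,
    mul_div_cancel_left₀ _ two_ne_zero]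
  exact IsIntegral.sum _ fun k hk => hint k (Finset.mem_filter.mp hk).1

theorem sum_xO_mul_left {χ : G → ℂ} {h : G} (hh : h ∈ d.O) :
    ∑ h' : d.O, χ ((h' : G) * h) = ∑ h' : d.O, χ h' :=
  Fintype.sum_equiv (Equiv.mulRight (⟨h, hh⟩ : d.O)) _ _ fun _ => rfl

/-- For a constituent, the values on `x O` are all `1` mod 2. -/
theorem value_odd {χ : G → ℂ} (hχ : IsIrrCharacter G χ) {a : ℤ} (ha : d.avg χ = a) (hodd : Odd a) (h : d.O) :
    ModTwo (χ (d.x * h)) 1 := by
  classical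
  have hc := isCharacter_of_irr hχ
  set o := Nat.card d.O
  obtain ⟨z, hz⟩ : ∃ z : ℤ, (∑ k ∈ Finset.univ.filter d.D, χ k) / χ 1 = z := by
    obtain ⟨f, hf, hf1⟩ := irr_degree_pos hχ
    have hH : (Nat.card d.H : ℂ) ≠ 0 := Nat.cast_ne_zero.mpr Nat.card_pos.ne'
    have heq : (∑ k ∈ Finset.univ.filter d.D, χ k) / χ 1 =
        (((Nat.card G : ℚ) * (o * a) / (Nat.card d.H * f) : ℚ) : ℂ) := by
      have h1 := d.sum_D (isClassFunction_irr hχ)
      rw [d.sum_xO, ha] at h1
      rw [hf1]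
      push_cast
      rw [← h1]
      field_simp
    have hi := d.isIntegral_omega hχ
    rw [heq] at hi
    obtain ⟨z, hz⟩ := exists_int_of_isIntegral_ratCast hi
    exact ⟨z, by rw [heq, hz]; simp⟩
  -- the key congruence
  have key : ∀ h : d.O, ModTwo ((z : ℂ) * χ (d.x * h)) 1 := by
    intro h
    rw [← hz, ← d.mul_sum_D hχ (d.x * h),
      ← Finset.sum_filter_add_sum_filter_not (Finset.univ.filter d.D) (fun k => k ∈ d.H)]
    have hout : ModTwo (∑ k ∈ (Finset.univ.filter d.D).filter (fun k => k ∉ d.H), χ (k * (d.x * h))) 0 := by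
      refine pairing_sum (fun k => d.x * k * d.x⁻¹) _ ?_ ?_ ?_ ?_ ?_
      · intro k hk
        simp only [Finset.mem_filter, Finset.mem_univ, true_and] at hk ⊢
        refine ⟨(d.D_conj _ _).mpr hk.1, fun hm => hk.2 ?_⟩
        have := d.H.mul_mem (d.H.mul_mem (d.H.inv_mem (d.hVH d.hxV)) hm) (d.hVH d.hxV)
        simpa [mul_assoc] using this
      · intro k hk e
        simp only [Finset.mem_filter] at hk
        exact hk.2 (d.mem_H_of_comm (mul_inv_eq_iff_eq_mul.mp e).symm)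
      · intro k _
        show d.x * (d.x * k * d.x⁻¹) * d.x⁻¹ = k
        rw [d.inv_eq d.hxV, show d.x * (d.x * k * d.x) * d.x = (d.x * d.x) * k * (d.x * d.x) by group, d.hVsq _ d.hxV]
        simp
      · intro k _
        show χ (d.x * k * d.x⁻¹ * (d.x * h)) = χ (k * (d.x * h))
        rw [show d.x * k * d.x⁻¹ * (d.x * h) = d.x * k * (h : G) by group, d.comm d.hxV (d.hOH h.2),
          ← isClassFunction_irr hχ (k * ((h : G) * d.x)) d.x]
        congr 1; group
      · intro k _; exact isIntegral_of_char hc _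
    have hin : ModTwo (∑ k ∈ (Finset.univ.filter d.D).filter (fun k => k ∈ d.H), χ (k * (d.x * h))) 1 := by
      have hset : ∑ k ∈ (Finset.univ.filter d.D).filter (fun k => k ∈ d.H), χ (k * (d.x * h)) =
          ∑ p ∈ ((Finset.univ : Finset d.V).erase 1) ×ˢ (Finset.univ : Finset d.O), χ ((p.1 : G) * p.2 * (d.x * h)) := by
        symm
        refine Finset.sum_bij (fun p _ => (p.1 : G) * p.2) ?_ ?_ ?_ ?_
        · intro p hp
          simp only [Finset.mem_product, Finset.mem_erase, Finset.mem_univ, and_true] at hp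
          simp only [Finset.mem_filter, Finset.mem_univ, true_and]
          exact ⟨(d.D_of_VO p.1.2 p.2.2).mpr fun e => hp (Subtype.ext e), d.H.mul_mem (d.hVH p.1.2) (d.hOH p.2.2)⟩
        · intro p _ q _ e
          obtain ⟨e1, e2⟩ := d.unique p.1.2 q.1.2 p.2.2 q.2.2 e
          exact Prod.ext (Subtype.ext e1) (Subtype.ext e2)
        · intro k hk
          simp only [Finset.mem_filter, Finset.mem_univ, true_and] at hk
          obtain ⟨v, hv, h', hh', rfl⟩ := d.hdec k hk.2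
          have hv1 := (d.D_of_VO hv hh').mp hk.1
          exact ⟨(⟨v, hv⟩, ⟨h', hh'⟩), Finset.mem_product.mpr ⟨Finset.mem_erase.mpr ⟨fun e => hv1 (congrArg Subtype.val e), Finset.mem_univ _⟩, Finset.mem_univ _⟩, rfl⟩
        · intro p _; rfl
      rw [hset]
      have h1 : ModTwo (∑ p ∈ ((Finset.univ : Finset d.V).erase 1) ×ˢ (Finset.univ : Finset d.O), χ ((p.1 : G) * p.2 * (d.x * h)))
          (∑ p ∈ ((Finset.univ : Finset d.V).erase 1) ×ˢ (Finset.univ : Finset d.O), χ ((p.2 : G) * h)) := by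
        refine ModTwo.sum _ _ _ fun p _ => ?_
        rw [show (p.1 : G) * p.2 * (d.x * h) = (p.1 : G) * ((p.2 : G) * d.x) * h by group, ← d.comm d.hxV (d.hOH p.2.2),
          show (p.1 : G) * (d.x * (p.2 : G)) * h = ((p.1 : G) * d.x) * ((p.2 : G) * h) by group]
        exact d.modTwo_V hc (d.V.mul_mem p.1.2 d.hxV) (d.H.mul_mem (d.hOH p.2.2) (d.hOH h.2))
      refine h1.trans ?_
      simp only [Finset.sum_product]
      rw [Finset.sum_const, Finset.card_erase_of_mem (Finset.mem_univ _), Finset.card_univ,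
        ← Nat.card_eq_fintype_card, d.hV4, d.sum_xO_mul_left h.2, nsmul_eq_mul]
      refine (ModTwo.mul_left _ (by simpa using isIntegral_intCast (3 : ℤ))
        (ModTwo.symm (ModTwo.sum _ _ _ fun h' _ => d.modTwo_V hc d.hxV (d.hOH (h' : d.O).2)))).trans ?_
      rw [d.sum_xO, ha]
      have e : ((4 - 1 : ℕ) : ℂ) * ((o : ℂ) * (a : ℂ)) = ((3 * ((o : ℤ) * a) : ℤ) : ℂ) := by push_cast; ring
      rw [e, show (1 : ℂ) = ((1 : ℤ) : ℂ) by simp, modTwo_int]
      obtain ⟨q, hq⟩ := hodd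
      obtain ⟨m, hm⟩ := d.hodd
      change o = 2 * m + 1 at hm
      rw [hm, hq]
      push_cast
      exact ⟨6 * m * q + 3 * m + 3 * q + 1, by ring⟩
    have := (ModTwo.sum (Finset.univ : Finset (Fin 2))
      ![∑ k ∈ (Finset.univ.filter d.D).filter (fun k => k ∈ d.H), χ (k * (d.x * h)),
        ∑ k ∈ (Finset.univ.filter d.D).filter (fun k => k ∉ d.H), χ (k * (d.x * h))] ![1, 0]
      (fun i _ => by fin_cases i <;> simp [hin, hout]))
    simpa [Fin.sum_univ_two] using this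
  -- z is odd
  have hzodd : Odd z := by
    have h1 := ModTwo.sum (Finset.univ : Finset d.O) _ _ (fun h _ => key h)
    rw [← Finset.mul_sum, d.sum_xO, ha, Finset.sum_const, Finset.card_univ, ← Nat.card_eq_fintype_card, nsmul_eq_mul, mul_one] at h1
    rw [show (z : ℂ) * ((o : ℂ) * (a : ℂ)) = ((z * ((o : ℤ) * a) : ℤ) : ℂ) by push_cast; rfl,
      show ((o : ℕ) : ℂ) = (((o : ℕ) : ℤ) : ℂ) by simp, modTwo_int] at h1
    rcases Int.even_or_odd z with ⟨q, hq⟩ | hzo
    · exfalso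
      obtain ⟨m, hm⟩ := d.hodd
      change o = 2 * m + 1 at hm
      obtain ⟨w, hw⟩ := h1
      have : ((o : ℤ)) = 2 * (q * (o * a) - w) := by rw [hq] at hw; linear_combination -hw
      omega
    · exact hzo
  obtain ⟨q, hq⟩ := hzodd
  have h2 : ModTwo (χ (d.x * h)) ((z : ℂ) * χ (d.x * h)) := by
    unfold ModTwo
    rw [show (χ (d.x * h) - (z : ℂ) * χ (d.x * h)) / 2 = -((q : ℂ) * χ (d.x * h)) by rw [hq]; push_cast; ring]
    exact ((isIntegral_intCast q).mul (isIntegral_of_char hc _)).neg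
  exact h2.trans (key h)

/-- A constituent is constant `± 1` on `x O`. -/
theorem value_const {χ : G → ℂ} (hχ : IsIrrCharacter G χ) (hne : χ ≠ fun _ => 1) {a : ℤ}
    (ha : d.avg χ = a) (ha1 : a = 1 ∨ a = -1) (h : d.O) : χ (d.x * h) = a := by
  classical
  have hc := isCharacter_of_irr hχ
  have hodd : Odd a := by rcases ha1 with e | e <;> rw [e] <;> decide
  set o := Nat.card d.O
  have ho := d.cardO_ne
  obtain ⟨m, hm⟩ := d.M_int hc hc
  -- `m² + a² ≤ 4 m`
  have hle : m ^ 2 + 1 ≤ 4 * m := by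
    have hsq := d.M_sq (φ := χ) (isClassFunction_irr hχ)
    choose z hz using fun ψ : IrrCharacter G => d.M_int hc (isCharacter_of_irr ψ.2)
    have hterm : ∀ ψ : IrrCharacter G, d.M χ ψ * d.M ψ χ = ((z ψ ^ 2 : ℤ) : ℂ) := fun ψ => by
      rw [← d.M_symm hc (isCharacter_of_irr ψ.2), hz]; push_cast; ring
    simp only [hterm, hm] at hsq
    have hsq' : ∑ ψ : IrrCharacter G, z ψ ^ 2 = 4 * m := by exact_mod_cast hsq
    let p0 : IrrCharacter G := ⟨fun _ => 1, isIrrCharacter_one⟩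
    let p1 : IrrCharacter G := ⟨χ, hχ⟩
    have hne' : p0 ≠ p1 := fun e => hne (congrArg Subtype.val e).symm
    have hle := Finset.sum_le_sum_of_subset_of_nonneg (Finset.subset_univ ({p0, p1} : Finset _))
      (fun ψ _ _ => sq_nonneg (z ψ))
    rw [Finset.sum_pair hne', hsq'] at hle
    have e0 : z p0 = a := by
      have h1 := hz p0
      rw [show ((p0 : G → ℂ)) = fun _ => 1 from rfl, d.M_one, ha] at h1
      exact_mod_cast h1.symm
    have e1 : z p1 = m := by
      have h1 := hz p1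
      rw [show ((p1 : G → ℂ)) = χ from rfl, hm] at h1
      exact_mod_cast h1.symm
    rw [e0, e1] at hle
    rcases ha1 with e | e <;> rw [e] at hle <;> linarith
  let c : d.O → ℂ := fun h => (χ (d.x * h) - a) / 2
  have hci : ∀ h, IsIntegral ℤ (c h) := fun h => by
    refine (d.value_odd hχ ha hodd h).trans ?_
    rw [show (1 : ℂ) = ((1 : ℤ) : ℂ) by simp, modTwo_int]
    rcases ha1 with e | e <;> rw [e] <;> decide
  have hb : ∀ h : d.O, χ (d.x * h) = a + 2 * c h := fun h => by simp only [c]; ring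
  have hc0 : ∑ h : d.O, c h = 0 := by
    simp only [c]
    rw [← Finset.sum_div, Finset.sum_sub_distrib, d.sum_xO, ha, Finset.sum_const, Finset.card_univ,
      ← Nat.card_eq_fintype_card, nsmul_eq_mul, sub_self, zero_div]
  have hsum : (o : ℂ) * (m : ℂ) = (o : ℂ) + 4 * ∑ h : d.O, c h * conj (c h) := by
    rw [← hm, M, ← d.sum_xO]
    have hexp : ∀ h : d.O, χ (d.x * h) * conj (χ (d.x * h)) =
        (1 : ℂ) + 2 * (a : ℂ) * c h + 2 * (a : ℂ) * conj (c h) + 4 * (c h * conj (c h)) := fun h => by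
      rw [hb, map_add, map_mul, map_intCast, map_ofNat]
      rcases ha1 with e | e <;> rw [e] <;> push_cast <;> ring
    rw [Finset.sum_congr rfl fun h _ => hexp h]
    simp only [Finset.sum_add_distrib, ← Finset.mul_sum, ← map_sum, hc0, map_zero, mul_zero, add_zero,
      Finset.sum_const, Finset.card_univ, ← Nat.card_eq_fintype_card, nsmul_eq_mul, mul_one]
    rfl
  have hm1 : m = 1 := by
    have hi : IsIntegral ℤ ((((o : ℤ) * (m - 1) : ℤ) : ℚ) / 4 : ℚ) → (4 : ℤ) ∣ (o : ℤ) * (m - 1) := by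
      intro hi
      obtain ⟨w, hw⟩ := exists_int_of_isIntegral_ratCast (q := (((o : ℤ) * (m - 1) : ℤ) : ℚ) / 4)
        (hi.map (algebraMap ℚ ℂ).toIntAlgHom)
      refine ⟨w, ?_⟩
      have : ((((o : ℤ) * (m - 1)) : ℤ) : ℚ) = 4 * (w : ℚ) := by rw [← hw]; ring
      exact_mod_cast this
    have h4 : IsIntegral ℤ ((((((o : ℤ) * (m - 1) : ℤ) : ℚ) / 4 : ℚ)) : ℂ) := by
      have e : (((((o : ℤ) * (m - 1) : ℤ) : ℚ) / 4 : ℚ) : ℂ) = ∑ h : d.O, c h * conj (c h) := by
        push_cast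
        linear_combination hsum / 4
      rw [e]
      exact IsIntegral.sum _ fun h _ => (hci h).mul ((hci h).map (starRingEnd ℂ).toIntAlgHom)
    obtain ⟨w, hw⟩ := exists_int_of_isIntegral_ratCast h4
    have hd : (4 : ℤ) ∣ (o : ℤ) * (m - 1) := by
      refine ⟨w, ?_⟩
      have : ((((o : ℤ) * (m - 1)) : ℤ) : ℚ) = 4 * (w : ℚ) := by rw [← hw]; ring
      exact_mod_cast this
    have hcop : IsCoprime (4 : ℤ) (o : ℤ) := by
      rw [Int.isCoprime_iff_nat_coprime]
      show Nat.Coprime 4 o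
      exact (Nat.coprime_two_left.mpr d.hodd).pow_left 2
    have := hcop.dvd_of_dvd_mul_left hd
    obtain ⟨k, hk⟩ := this
    have h0 : 0 < m := by nlinarith
    have h3 : m ≤ 3 := by nlinarith
    omega
  rw [hm1, Int.cast_one, mul_one] at hsum
  have hzero : ∑ h : d.O, Complex.normSq (c h) = 0 := by
    have h0 : (∑ h : d.O, c h * conj (c h)) = 0 := by linear_combination -hsum / 4
    simp only [Complex.mul_conj] at h0
    exact_mod_cast h0
  have := (Finset.sum_eq_zero_iff_of_nonneg fun h _ => Complex.normSq_nonneg (c h)).mp hzero h (Finset.mem_univ _)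
  rw [Complex.normSq_eq_zero] at this
  rw [hb, this, mul_zero, add_zero]

/-- The class-multiplication identity. -/
theorem class_identity : (Nat.card G : ℂ) * ∑ χ : IrrCharacter G, d.avg χ * (χ : G → ℂ) d.x ^ 2 / (χ : G → ℂ) 1
    = 32 * (Nat.card d.O : ℂ) := by
  classical
  set Cl := Finset.univ.filter (fun u : G => IsConj d.x u)
  set N := Nat.card {u : G // IsConj d.x u}
  have hN : (N : ℂ) * (4 * (Nat.card d.O : ℂ)) = (Nat.card G : ℂ) := by
    have h := card_isConj_mul_card_centralizer d.x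
    rw [d.hH d.x d.hxV d.hx1, d.hcard] at h
    exact_mod_cast h
  -- count
  have hinv : ∀ u ∈ Cl, u * u = 1 ∧ u ≠ 1 := fun u hu => by
    obtain ⟨c, rfl⟩ := isConj_iff.mp (Finset.mem_filter.mp hu).2
    exact ⟨by rw [conj_mul, d.hVsq _ d.hxV]; group, fun e => d.hx1 (conj_eq_one_iff.mp e)⟩
  have hpairs : ∀ u ∈ Cl, ∀ w ∈ Cl, ∀ h : d.O, u * w = d.x * h → u ∈ d.V ∧ w ∈ d.V ∧ (h : G) = 1 := by
    intro u hu w hw h e
    obtain ⟨hu2, hu1⟩ := hinv u hu
    obtain ⟨hw2, -⟩ := hinv w hw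
    have huinv : u⁻¹ = u := inv_eq_of_mul_eq_one_right hu2
    have hwinv : w⁻¹ = w := inv_eq_of_mul_eq_one_right hw2
    have hflip : u * (d.x * h) * u⁻¹ = (d.x * (h : G))⁻¹ := by
      rw [← e, mul_inv_rev, huinv, hwinv, ← mul_assoc, hu2, one_mul]
    have huH : u ∈ d.H := by
      apply d.mem_H_of_comm
      have h1 := congrArg (fun g => g ^ Nat.card d.O) hflip
      simp only [conj_pow, inv_pow, d.pow_mul' d.hxV h.2, d.inv_eq d.hxV] at h1
      exact mul_inv_eq_iff_eq_mul.mp h1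
    have inV : ∀ k ∈ d.H, k * k = 1 → k ∈ d.V := by
      intro k hk hk2
      obtain ⟨v, hv, h', hh', rfl⟩ := d.hdec k hk
      have h2 := d.pow_mul' hv hh'
      obtain ⟨m, hm⟩ := d.hodd
      rw [hm, pow_succ, pow_mul, sq, hk2, one_pow, one_mul] at h2
      rw [h2]; exact hv
    have huV := inV u huH hu2
    have hwH : w ∈ d.H := by
      have : w = u * (d.x * h) := by rw [← e, ← mul_assoc, hu2, one_mul]
      rw [this]; exact d.H.mul_mem huH (d.H.mul_mem (d.hVH d.hxV) (d.hOH h.2))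
    have hwV := inV w hwH hw2
    refine ⟨huV, hwV, ?_⟩
    exact ((d.unique (d.V.mul_mem huV hwV) d.hxV d.O.one_mem h.2 (by rw [mul_one]; exact e)).2).symm
  have hcount : ∑ h : d.O, ∑ u ∈ Cl, ∑ w ∈ Cl, (if u * w = d.x * h then (1 : ℂ) else 0) = 2 := by
    rw [Finset.sum_eq_single (1 : d.O)]
    · have hin : ∀ u ∈ Cl, ∑ w ∈ Cl, (if u * w = d.x * ((1 : d.O) : G) then (1 : ℂ) else 0) =
          if u ∈ d.V ∧ u ≠ d.x then 1 else 0 := by
        intro u hu
        obtain ⟨hu2, hu1⟩ := hinv u hu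
        have hsolve : ∀ w, u * w = d.x → w = u * d.x := fun w e => by rw [← e, ← mul_assoc, hu2, one_mul]
        simp only [OneMemClass.coe_one, mul_one]
        split
        · rename_i hcond
          have hm : u * d.x ∈ Cl := by
            refine Finset.mem_filter.mpr ⟨Finset.mem_univ _, d.hconj _ (d.V.mul_mem hcond.1 d.hxV) fun e => hcond.2 ?_⟩
            rw [mul_eq_one_iff_eq_inv, d.inv_eq d.hxV] at e; exact e
          rw [Finset.sum_eq_single (u * d.x)]
          · rw [if_pos (by rw [← mul_assoc, hu2, one_mul])]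
          · intro w _ hne; rw [if_neg fun e => hne (hsolve w e)]
          · intro hn; exact absurd hm hn
        · rename_i hcond
          refine Finset.sum_eq_zero fun w hw => if_neg fun e => hcond ?_
          refine ⟨(hpairs u hu w hw 1 (by simpa using e)).1, fun eu => (hinv w hw).2 ?_⟩
          rw [hsolve w e, eu, d.hVsq _ d.hxV]
      rw [Finset.sum_congr rfl hin, Finset.sum_boole]
      have hbij : (Cl.filter fun u => u ∈ d.V ∧ u ≠ d.x).card = (((Finset.univ : Finset d.V).erase 1).erase ⟨d.x, d.hxV⟩).card := by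
        symm
        refine Finset.card_bij (fun v _ => (v : G)) ?_ (fun a _ b _ e => Subtype.ext e) ?_
        · intro v hv
          simp only [Finset.mem_erase, Finset.mem_univ, and_true] at hv
          exact Finset.mem_filter.mpr ⟨Finset.mem_filter.mpr ⟨Finset.mem_univ _, d.hconj v v.2 fun e => hv.2 (Subtype.ext e)⟩, v.2, fun e => hv.1 (Subtype.ext e)⟩
        · intro u hu
          obtain ⟨hu, huV, hux⟩ := Finset.mem_filter.mp hu
          exact ⟨⟨u, huV⟩, Finset.mem_erase.mpr ⟨fun e => hux (congrArg Subtype.val e), Finset.mem_erase.mpr ⟨fun e => (hinv u hu).2 (congrArg Subtype.val e), Finset.mem_univ _⟩⟩, rfl⟩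
      rw [hbij, Finset.card_erase_of_mem (Finset.mem_erase.mpr ⟨fun e => d.hx1 (congrArg Subtype.val e), Finset.mem_univ _⟩),
        Finset.card_erase_of_mem (Finset.mem_univ _), Finset.card_univ, ← Nat.card_eq_fintype_card, d.hV4]
      norm_num
    · intro h _ hne
      refine Finset.sum_eq_zero fun u hu => Finset.sum_eq_zero fun w hw => if_neg fun e => hne ?_
      exact Subtype.ext (hpairs u hu w hw h e).2.2
    · simp
  have hexp : ∀ h : d.O, ∑ u ∈ Cl, ∑ w ∈ Cl, (Nat.card G : ℂ) * (if u * w = d.x * h then (1 : ℂ) else 0) =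
      ∑ χ : IrrCharacter G, (N : ℂ) * (N : ℂ) * ((χ : G → ℂ) d.x * (χ : G → ℂ) d.x * (χ : G → ℂ) (d.x * (h : G))⁻¹) / (χ : G → ℂ) 1 := by
    intro h
    have e1 : ∀ u w : G, (Nat.card G : ℂ) * (if u * w = d.x * h then (1 : ℂ) else 0) =
        ∑ χ : IrrCharacter G, (χ : G → ℂ) (u * w * (d.x * (h : G))⁻¹) * (χ : G → ℂ) 1 := fun u w => by
      rw [sum_irr_apply_mul_degree, mul_ite, mul_one, mul_zero]
      exact if_congr mul_inv_eq_one.symm rfl rfl
    simp only [e1]
    rw [Finset.sum_congr rfl fun u _ => Finset.sum_comm, Finset.sum_comm]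
    refine Finset.sum_congr rfl fun χ _ => ?_
    simp only [← Finset.sum_mul]
    rw [sum_class_class_char χ.2 d.x d.x]
    have := irr_ne_zero χ.2
    field_simp
    ring
  have htotal := congrArg (fun t => (Nat.card G : ℂ) * t) hcount
  simp only [Finset.mul_sum] at htotal
  rw [Finset.sum_congr rfl fun h _ => hexp h, Finset.sum_comm] at htotal
  have hsum : ∀ χ : IrrCharacter G, ∑ h : d.O, (χ : G → ℂ) (d.x * (h : G))⁻¹ = (Nat.card d.O : ℂ) * d.avg χ := by
    intro χ
    rw [← d.sum_xO]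
    refine Fintype.sum_equiv (Equiv.inv d.O) _ _ fun h => ?_
    show (χ : G → ℂ) (d.x * (h : G))⁻¹ = (χ : G → ℂ) (d.x * ((h⁻¹ : d.O) : G))
    apply congrArg
    rw [mul_inv_rev, d.inv_eq d.hxV, Subgroup.coe_inv, d.comm d.hxV (d.H.inv_mem (d.hOH h.2))]
  have h3 : (N : ℂ) * (N : ℂ) * (Nat.card d.O : ℂ) * ∑ χ : IrrCharacter G, d.avg χ * (χ : G → ℂ) d.x ^ 2 / (χ : G → ℂ) 1 =
      (Nat.card G : ℂ) * 2 := by
    rw [← htotal, Finset.mul_sum]
    refine Finset.sum_congr rfl fun χ _ => ?_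
    rw [← Finset.sum_div, ← Finset.mul_sum, ← Finset.mul_sum, hsum]
    ring
  set T := ∑ χ : IrrCharacter G, d.avg χ * (χ : G → ℂ) d.x ^ 2 / (χ : G → ℂ) 1
  have hG : (Nat.card G : ℂ) ≠ 0 := Nat.cast_ne_zero.mpr Nat.card_pos.ne'
  apply mul_left_cancel₀ hG
  linear_combination (16 * (Nat.card d.O : ℂ)) * h3 - ((Nat.card G : ℂ) + (N : ℂ) * (4 * (Nat.card d.O : ℂ))) * T * hN

end Finite

end Data

end CfsgLib.KleinCent
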