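import Mathlib
import Cfsg.Agent.S0111
import Cfsg.Agent.Lib.PComplement
import Cfsg.Agent.Lib.Elementary
import Cfsg.Agent.Lib.SmallOrder

/-!
A simple group with an involution whose centralizer has a normal four-group of odd index:
the four-group is a Sylow 2-subgroup and all its involutions have the same centralizer.
-/

set_option autoImplicit false

open scoped commutatorElement

namespace CfsgLib.KleinCent

variable {G : Type*} [Group G] [Finite G]

/-- A proper subgroup of a finite 2-group lies in a normal subgroup of index 2. -/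
theorem exists_normal_index_two {S : Type*} [Group S] [Finite S] (hS : IsPGroup 2 S) {M : Subgroup S}
    (hM : M ≠ ⊤) : ∃ C : Subgroup S, C.Normal ∧ C.index = 2 ∧ M ≤ C := by
  haveI := Fact.mk Nat.prime_two
  haveI : Group.IsNilpotent S := hS.isNilpotent
  rcases IsCoatomic.eq_top_or_exists_le_coatom M with h | ⟨C, hC, hMC⟩
  · exact absurd h hM
  have hn : C.Normal := Subgroup.NormalizerCondition.normal_of_coatom C normalizerCondition_of_isNilpotent hC
  obtain ⟨k, hk⟩ := hS.index C
  refine ⟨C, hn, ?_, hMC⟩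
  have hq : IsPGroup 2 (S ⧸ C) := hS.to_quotient C
  have hk0 : k ≠ 0 := fun e => hC.1 (Subgroup.index_eq_one.mp (by rw [hk, e, pow_zero]))
  haveI : C.Normal := hn
  obtain ⟨z, hz⟩ := exists_prime_orderOf_dvd_card' (G := S ⧸ C) 2
    (by rw [← Subgroup.index_eq_card, hk]; exact dvd_pow_self 2 hk0)
  have htop : (Subgroup.zpowers z).comap (QuotientGroup.mk' C) = ⊤ := by
    refine hC.2 _ (lt_of_le_of_ne (fun c hc => ?_) fun e => ?_)
    · show QuotientGroup.mk' C c ∈ Subgroup.zpowers z
      rw [(QuotientGroup.eq_one_iff c).mpr hc |> (fun h => (h : QuotientGroup.mk' C c = 1))]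
      exact one_mem _
    · obtain ⟨w, rfl⟩ := QuotientGroup.mk'_surjective C z
      have hw : w ∈ C := by rw [e]; exact Subgroup.mem_zpowers _
      rw [(QuotientGroup.eq_one_iff w).mpr hw |> (fun h => (h : QuotientGroup.mk' C w = 1)), orderOf_one] at hz
      exact absurd hz (by norm_num)
  have hz' : Subgroup.zpowers z = ⊤ := by
    rw [← Subgroup.map_comap_eq_self_of_surjective (QuotientGroup.mk'_surjective C) (Subgroup.zpowers z), htop,
      Subgroup.map_top_of_surjective _ (QuotientGroup.mk'_surjective C)]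
  rw [Subgroup.index_eq_card, ← Subgroup.card_top (G := S ⧸ C), ← hz', Nat.card_zpowers, hz]

/-- A Sylow 2-subgroup of the centralizer of order 4 is the whole Sylow 2-subgroup if the group is simple and the
centralizer has order `4 * odd`. -/
theorem sylow_card_le_four [IsSimpleGroup G] (hab : ¬ IsMulCommutative G) (S : Sylow 2 G) {x : G}
    (hx : orderOf x = 2) (hxS : x ∈ (S : Subgroup G))
    (hC : ¬ 8 ∣ Nat.card (Subgroup.centralizer ({x} : Set G))) : Nat.card S ≤ 4 := by
  classical
  haveI := Fact.mk Nat.prime_two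
  by_contra hbig
  push Not at hbig
  set T : Subgroup ↥(S : Subgroup G) := commutator ↥(S : Subgroup G) with hT
  obtain ⟨k, hk⟩ := S.2.exists_card_eq
  have hk3 : 3 ≤ k := by
    by_contra h
    have h2 : 2 ^ k ≤ 2 ^ 2 := Nat.pow_le_pow_right (by norm_num) (by omega)
    rw [← hk] at h2
    omega
  -- centralizers in S of conjugates of x
  have hcent : ∀ y : ↥(S : Subgroup G), IsConj x (y : G) →
      Nat.card (Subgroup.centralizer ({y} : Set ↥(S : Subgroup G))) ≤ 4 := by
    intro y hy
    obtain ⟨c, hc⟩ := isConj_iff.mp hy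
    set K := (Subgroup.centralizer ({y} : Set ↥(S : Subgroup G))).map (S : Subgroup G).subtype
    have hKc : K.map (MulAut.conj c⁻¹).toMonoidHom ≤ Subgroup.centralizer ({x} : Set G) := by
      rintro _ ⟨_, ⟨s, hs, rfl⟩, rfl⟩
      rw [Subgroup.mem_centralizer_singleton_iff]
      have h1 : (s : G) * (y : G) = (y : G) * (s : G) :=
        congrArg Subtype.val (Subgroup.mem_centralizer_singleton_iff.mp hs)
      rw [← hc] at h1
      simp only [MulEquiv.toMonoidHom_eq_coe, MonoidHom.coe_coe, MulAut.conj_apply, inv_inv, Subgroup.coe_subtype]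
      calc c⁻¹ * (s : G) * c * x = c⁻¹ * ((s : G) * (c * x * c⁻¹)) * c := by group
        _ = c⁻¹ * ((c * x * c⁻¹) * (s : G)) * c := by rw [h1]
        _ = x * (c⁻¹ * (s : G) * c) := by group
    have hd := Subgroup.card_dvd_of_le hKc
    rw [Subgroup.card_map_of_injective (MulEquiv.injective _),
      Subgroup.card_map_of_injective (S : Subgroup G).subtype_injective] at hd
    obtain ⟨j, hj⟩ := (S.2.to_subgroup (Subgroup.centralizer ({y} : Set ↥(S : Subgroup G)))).exists_card_eq
    rw [hj] at hd ⊢
    by_contra hcon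
    push Not at hcon
    have hj3 : 3 ≤ j := by
      by_contra h
      have h2 : 2 ^ j ≤ 2 ^ 2 := Nat.pow_le_pow_right (by norm_num) (by omega)
      omega
    exact hC (((by norm_num : (8 : ℕ) = 2 ^ 3)) ▸ (pow_dvd_pow 2 hj3).trans hd)
  have hnab : ¬ ∀ a b : ↥(S : Subgroup G), a * b = b * a := by
    intro h
    have h1 := hcent ⟨x, hxS⟩ (IsConj.refl x)
    have htop : Subgroup.centralizer ({(⟨x, hxS⟩ : ↥(S : Subgroup G))} : Set ↥(S : Subgroup G)) = ⊤ :=
      eq_top_iff.mpr fun s _ => Subgroup.mem_centralizer_singleton_iff.mpr (h s _)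
    rw [htop, Subgroup.card_top] at h1
    change Nat.card S ≤ 4 at h1
    omega
  -- squares lie in T and T has index at least 4
  have hab2 : ∀ C : Subgroup ↥(S : Subgroup G), C.index = 2 → T ≤ C := by
    intro C hC2
    rw [hT, commutator_def, Subgroup.commutator_le]
    intro a _ b _
    rw [commutatorElement_def]
    simp only [Subgroup.mul_mem_iff_of_index_two hC2, inv_mem_iff]
    tauto
  have hgen : ∀ g : ↥(S : Subgroup G), ¬ (∀ C : Subgroup ↥(S : Subgroup G), C.index = 2 → g ∉ C) := by
    intro g hg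
    have hz : Subgroup.zpowers g = ⊤ := by
      by_contra hne
      obtain ⟨C, -, hC2, hle⟩ := exists_normal_index_two S.2 hne
      exact hg C hC2 (hle (Subgroup.mem_zpowers g))
    refine hnab fun a b => ?_
    obtain ⟨i, rfl⟩ := Subgroup.mem_zpowers_iff.mp (hz ▸ Subgroup.mem_top a : a ∈ Subgroup.zpowers g)
    obtain ⟨j, rfl⟩ := Subgroup.mem_zpowers_iff.mp (hz ▸ Subgroup.mem_top b : b ∈ Subgroup.zpowers g)
    exact ((Commute.refl g).zpow_zpow i j).eq
  obtain ⟨i, hi⟩ := S.2.index T
  have hi2 : 2 ≤ i := by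
    by_contra hlt
    have hne : T ≠ ⊤ := by
      haveI : Group.IsNilpotent ↥(S : Subgroup G) := S.2.isNilpotent
      haveI : Nontrivial ↥(S : Subgroup G) := Finite.one_lt_card_iff_nontrivial.mp (by
        change 1 < Nat.card S; omega)
      exact (Group.IsSolvable.commutator_lt_top_of_nontrivial ↥(S : Subgroup G)).ne
    have hi1 : i = 1 := by
      rcases Nat.eq_zero_or_pos i with h | h
      · exact absurd (Subgroup.index_eq_one.mp (by rw [hi, h, pow_zero])) hne
      · omega
    obtain ⟨g, -, hg⟩ := SetLike.exists_of_lt (lt_top_iff_ne_top.mpr hne)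
    refine hgen g fun C hC2 hgC => hg ?_
    have : T = C := Subgroup.eq_of_le_of_card_ge (hab2 C hC2) (by
      have h1 := T.card_mul_index
      have h2 := C.card_mul_index
      rw [hi, hi1, pow_one] at h1
      rw [hC2] at h2
      omega)
    exact this ▸ hgC
  -- the class of a conjugate of x in S is a full coset of T
  have hclass : ∀ y : ↥(S : Subgroup G), IsConj x (y : G) →
      (i = 2 ∧ y ∉ T ∧ ∀ w : ↥(S : Subgroup G), y⁻¹ * w ∈ T → IsConj x (w : G)) := by
    intro y hy
    let f : ↥(S : Subgroup G) ⧸ Subgroup.centralizer ({y} : Set ↥(S : Subgroup G)) → {w : ↥(S : Subgroup G) // y⁻¹ * w ∈ T} :=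
      Quotient.lift (fun s => ⟨s * y * s⁻¹, by
        rw [hT, commutator_def, show y⁻¹ * (s * y * s⁻¹) = ⁅y⁻¹, s⁆ by rw [commutatorElement_def]; group]
        exact Subgroup.commutator_mem_commutator (Subgroup.mem_top _) (Subgroup.mem_top _)⟩) (by
        intro a b hab
        have hab : a⁻¹ * b ∈ Subgroup.centralizer ({y} : Set ↥(S : Subgroup G)) := QuotientGroup.leftRel_apply.mp hab
        rw [Subgroup.mem_centralizer_singleton_iff] at hab
        apply Subtype.ext
        show a * y * a⁻¹ = b * y * b⁻¹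
        calc a * y * a⁻¹ = a * (y * (a⁻¹ * b)) * b⁻¹ := by group
          _ = a * ((a⁻¹ * b) * y) * b⁻¹ := by rw [hab]
          _ = b * y * b⁻¹ := by group)
    have hinj : Function.Injective f := by
      intro a b
      refine Quotient.inductionOn₂ a b fun a b hab => ?_
      have h1 : a * y * a⁻¹ = b * y * b⁻¹ := congrArg Subtype.val hab
      refine Quotient.sound ?_
      show QuotientGroup.leftRel _ a b
      rw [QuotientGroup.leftRel_apply, Subgroup.mem_centralizer_singleton_iff]
      calc a⁻¹ * b * y = a⁻¹ * (b * y * b⁻¹) * b := by group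
        _ = a⁻¹ * (a * y * a⁻¹) * b := by rw [h1]
        _ = y * (a⁻¹ * b) := by group
    have hcoset : Nat.card {w : ↥(S : Subgroup G) // y⁻¹ * w ∈ T} = Nat.card T :=
      Nat.card_congr ((Equiv.mulLeft y⁻¹).subtypeEquiv fun w => Iff.rfl)
    have hle : (Subgroup.centralizer ({y} : Set ↥(S : Subgroup G))).index ≤ Nat.card T :=
      hcoset ▸ Nat.card_le_card_of_injective f hinj
    have h1 := (Subgroup.centralizer ({y} : Set ↥(S : Subgroup G))).card_mul_index
    have h2 := T.card_mul_index
    have h3 := hcent y hy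
    have hge : 4 ≤ T.index := by rw [hi]; exact le_trans (by norm_num) (Nat.pow_le_pow_right (by norm_num) hi2)
    have hTpos : 0 < Nat.card T := Nat.card_pos
    have key : Nat.card T * T.index ≤ Nat.card T * 4 := by
      rw [h2, ← h1]
      calc _ ≤ 4 * Nat.card T := Nat.mul_le_mul h3 hle
        _ = _ := mul_comm _ _
    have h4 : T.index = 4 := le_antisymm (Nat.le_of_mul_le_mul_left key hTpos) hge
    have hcpos : 0 < (Subgroup.centralizer ({y} : Set ↥(S : Subgroup G))).index := Nat.pos_of_ne_zero Subgroup.index_ne_zero_of_finite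
    have hidx : (Subgroup.centralizer ({y} : Set ↥(S : Subgroup G))).index = Nat.card T := by
      refine le_antisymm hle ?_
      rw [h4] at h2
      nlinarith
    have hbij : Function.Bijective f := (Nat.bijective_iff_injective_and_card f).mpr ⟨hinj, by rw [hcoset]; exact hidx⟩
    have hall : ∀ w : ↥(S : Subgroup G), y⁻¹ * w ∈ T → IsConj x (w : G) := by
      intro w hw
      obtain ⟨q, hq⟩ := hbij.2 ⟨w, hw⟩
      obtain ⟨s, rfl⟩ := QuotientGroup.mk_surjective q
      have h5 : s * y * s⁻¹ = w := congrArg Subtype.val hq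
      refine hy.trans (isConj_iff.mpr ⟨(s : G), ?_⟩)
      rw [← h5]; rfl
    refine ⟨?_, fun hyT => ?_, hall⟩
    · rw [hi] at h4
      exact Nat.pow_right_injective le_rfl (show 2 ^ i = 2 ^ 2 from h4)
    · have := hall 1 (by simpa using hyT)
      have hx1 : x = 1 := isConj_one_left.mp this
      rw [hx1, orderOf_one] at hx
      exact absurd hx (by norm_num)
  obtain ⟨hi2', hxT, -⟩ := hclass ⟨x, hxS⟩ (IsConj.refl x)
  have hidx : T.index = 4 := by rw [hi, hi2']; norm_num
  have hsq : ∀ g : ↥(S : Subgroup G), g * g ∈ T := by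
    intro g
    by_contra hg
    refine hgen g fun C hC2 hgC => ?_
    have hg2 : ∀ C' : Subgroup ↥(S : Subgroup G), T ≤ C' → C'.index = 2 → g * g ∈ C' := fun C' _ h => by
      rw [Subgroup.mul_mem_iff_of_index_two h]
    -- the order of `g` in `S/T` is four
    haveI : T.Normal := hT ▸ inferInstance
    have hcardq : Nat.card (↥(S : Subgroup G) ⧸ T) = 4 := by rw [← Subgroup.index_eq_card, hidx]
    have hd : orderOf (g : ↥(S : Subgroup G) ⧸ T) ∣ 2 ^ 2 := by
      have := orderOf_dvd_natCard (g : ↥(S : Subgroup G) ⧸ T); rwa [hcardq] at this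
    obtain ⟨j, hj, hj'⟩ := (Nat.dvd_prime_pow Nat.prime_two).mp hd
    have hj2 : j = 2 := by
      by_contra hne
      apply hg
      rw [← QuotientGroup.eq_one_iff, QuotientGroup.mk_mul, ← sq, ← orderOf_dvd_iff_pow_eq_one, hj']
      exact (pow_dvd_pow 2 (show j ≤ 1 by omega)).trans (by norm_num)
    have hCT := hab2 C hC2
    have hsub : Subgroup.zpowers (g : ↥(S : Subgroup G) ⧸ T) ≤ C.map (QuotientGroup.mk' T) :=
      Subgroup.zpowers_le.mpr ⟨g, hgC, rfl⟩
    have hlt : Nat.card (C.map (QuotientGroup.mk' T)) ≤ 2 := by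
      have hmi : (C.map (QuotientGroup.mk' T)).index = 2 := by
        rw [Subgroup.index_map_eq _ (QuotientGroup.mk'_surjective T) (by rw [QuotientGroup.ker_mk']; exact hCT), hC2]
      have hm := (C.map (QuotientGroup.mk' T)).card_mul_index
      rw [hmi, hcardq] at hm
      omega
    have := (Subgroup.card_le_of_le hsub).trans hlt
    rw [Nat.card_zpowers, hj', hj2] at this
    norm_num at this
  -- some coset contains no conjugate of x
  have hw : ∃ w : ↥(S : Subgroup G), w ∉ T ∧ ¬ IsConj x (w : G) := by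
    by_contra hcon
    push Not at hcon
    have hx2 : ∀ u : ↥(S : Subgroup G), u ∉ T → u * u = 1 := fun u hu => by
      obtain ⟨c, hc⟩ := isConj_iff.mp (hcon u hu)
      apply Subtype.ext
      show (u : G) * (u : G) = 1
      rw [← hc, conj_mul, ← sq, ← hx, pow_orderOf_eq_one]; group
    have hinv : ∀ u : ↥(S : Subgroup G), u ∉ T → ∀ c ∈ T, u * c * u = c⁻¹ := fun u hu c hc => by
      have h1 := hx2 (u * c) (fun h => hu (by simpa using T.mul_mem h (T.inv_mem hc)))
      exact eq_inv_of_mul_eq_one_left (by rw [← h1]; group)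
    obtain ⟨u, -, hu⟩ := SetLike.exists_of_lt (show T < ⊤ from lt_top_iff_ne_top.mpr fun e => by
      rw [e, Subgroup.index_top] at hidx; omega)
    obtain ⟨v, hv, huv⟩ : ∃ v : ↥(S : Subgroup G), v ∉ T ∧ u * v ∉ T := by
      by_contra h
      push Not at h
      have hall : ∀ v : ↥(S : Subgroup G), v ∈ T ∨ u * v ∈ T := fun v => or_iff_not_imp_left.mpr (h v)
      have : T.index = 2 := Subgroup.index_eq_two_iff.mpr ⟨u⁻¹, fun b => by
        rcases hall b with hb | hb
        · refine Or.inr ⟨hb, fun h' => hu ?_⟩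
          have := T.mul_mem (T.inv_mem h') hb
          simpa [mul_assoc] using this
        · refine Or.inl ⟨?_, fun h' => hu (by simpa using T.mul_mem hb (T.inv_mem h'))⟩
          have h1 : u⁻¹ * u⁻¹ ∈ T := hsq u⁻¹
          haveI : T.Normal := hT ▸ inferInstance
          have h2 : u⁻¹ * (u * b) * u⁻¹⁻¹ ∈ T := (inferInstance : T.Normal).conj_mem _ hb u⁻¹
          have h3 := T.mul_mem h2 h1
          simpa [mul_assoc] using h3⟩
      omega
    have hcomm : u * v = v * u := by
      calc u * v = u * (u * v * (u * v)) * v := by rw [hx2 _ huv, mul_one]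
        _ = (u * u) * (v * u) * (v * v) := by group
        _ = v * u := by rw [hx2 u hu, hx2 v hv, one_mul, mul_one]
    have hT2 : ∀ c ∈ T, c * c = 1 := fun c hc => by
      have h1 : u * v * c * (u * v) = c⁻¹ := hinv _ huv c hc
      have h2 : u * v * c * (u * v) = c := by
        calc u * v * c * (u * v) = u * v * c * (v * u) := by rw [hcomm]
          _ = u * (v * c * v) * u := by group
          _ = c := by rw [hinv v hv c hc, hinv u hu c⁻¹ (T.inv_mem hc), inv_inv]
      exact mul_eq_one_iff_eq_inv.mpr (h2.symm.trans h1)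
    refine hnab fun a b => ?_
    have hall : ∀ g : ↥(S : Subgroup G), g * g = 1 := fun g => by
      by_cases hg : g ∈ T
      · exact hT2 g hg
      · exact hx2 g hg
    have hinv' : ∀ g : ↥(S : Subgroup G), g⁻¹ = g := fun g => inv_eq_of_mul_eq_one_right (hall g)
    rw [← hinv' (a * b), mul_inv_rev, hinv' a, hinv' b]
  obtain ⟨w, hwT, hwx⟩ := hw
  haveI : T.Normal := hT ▸ inferInstance
  set M : Subgroup ↥(S : Subgroup G) :=
    (Subgroup.zpowers (QuotientGroup.mk' T w)).comap (QuotientGroup.mk' T) with hM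
  have hword : orderOf (QuotientGroup.mk' T w) = 2 :=
    orderOf_eq_prime (by rw [← map_pow, sq]; exact (QuotientGroup.eq_one_iff _).mpr (hsq w))
      fun e => hwT ((QuotientGroup.eq_one_iff w).mp e)
  have hMi : M.index = 2 := by
    rw [hM, Subgroup.index_comap_of_surjective _ (QuotientGroup.mk'_surjective T)]
    have h := (Subgroup.zpowers (QuotientGroup.mk' T w)).card_mul_index
    rw [Nat.card_zpowers, hword, ← Subgroup.index_eq_card, hidx] at h
    omega
  have hMmem : ∀ s ∈ M, s ∈ T ∨ w⁻¹ * s ∈ T := by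
    intro s hs
    obtain ⟨j, hj⟩ := mem_powers_iff_mem_zpowers.mpr (Subgroup.mem_comap.mp hs)
    have hj' : QuotientGroup.mk' T w ^ j = QuotientGroup.mk' T s := hj
    rw [← pow_mod_orderOf, hword] at hj'
    rcases Nat.mod_two_eq_zero_or_one j with e | e <;> rw [e] at hj'
    · left; exact (QuotientGroup.eq_one_iff s).mp (by rw [pow_zero] at hj'; exact hj'.symm)
    · right; rw [pow_one] at hj'; exact QuotientGroup.eq.mp hj'
  have hno : ∀ s ∈ M, ¬ IsConj x (s : G) := by
    intro s hs hc
    obtain ⟨-, hsT, hall⟩ := hclass s hc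
    rcases hMmem s hs with h | h
    · exact hsT h
    · exact hwx (hall w (by simpa using T.inv_mem h))
  set Q := M.map (S : Subgroup G).subtype
  have hQi : Q.relIndex (S : Subgroup G) = 2 := by
    show ((M.map (S : Subgroup G).subtype).comap (S : Subgroup G).subtype).index = 2
    rw [Subgroup.comap_map_eq_self_of_injective (S : Subgroup G).subtype_injective]
    exact hMi
  have hxQ : x ∉ Q := by
    rintro ⟨s, hs, hsx⟩
    exact hno s hs (by rw [show (s : G) = x from hsx])
  rcases Cfsg.Agent.S0111.result S Q (Subgroup.map_subtype_le M) hQi x hx hxS hxQ with ⟨N, hNn, hN2, hxN⟩ | ⟨g, hg⟩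
  · rcases Subgroup.Normal.eq_bot_or_eq_top hNn with e | e
    · rw [e, Subgroup.index_bot] at hN2
      exact hab ⟨⟨fun a b => by
        haveI := Fact.mk Nat.prime_two
        haveI : IsCyclic G := isCyclic_of_prime_card hN2
        obtain ⟨g, hg⟩ := IsCyclic.exists_generator (α := G)
        obtain ⟨i, rfl⟩ := Subgroup.mem_zpowers_iff.mp (hg a)
        obtain ⟨j, rfl⟩ := Subgroup.mem_zpowers_iff.mp (hg b)
        exact ((Commute.refl g).zpow_zpow i j).eq⟩⟩
    · rw [e, Subgroup.index_top] at hN2; omega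
  · obtain ⟨s, hs, hsx⟩ := hg
    exact hno s hs (isConj_iff.mpr ⟨g, hsx.symm⟩)

end CfsgLib.KleinCent
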